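import Mathlib

/-!
# The `p`-rank of an abstract commutative group is invariant under surjections with finite kernel
-/

set_option autoImplicit false

namespace Groth.Agent.Lib.Helper19.PRankGroup

variable {G H : Type*} [CommGroup G] [CommGroup H]

lemma card_tors (p : ℕ) [Fact p.Prime] (i m : ℕ)
    (e : (powMonoidHom (p ^ m) : G →* G).ker ≃* Multiplicative (Fin i → ZMod (p ^ m))) :
    Nat.card (powMonoidHom (p ^ m) : G →* G).ker = (p ^ m) ^ i := by
  haveI : NeZero (p ^ m) := ⟨pow_ne_zero _ (Fact.out : p.Prime).ne_zero⟩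
  rw [Nat.card_congr e.toEquiv, Nat.card_eq_fintype_card]
  simp [ZMod.card]

lemma finite_tors (p : ℕ) [Fact p.Prime] (i m : ℕ)
    (e : (powMonoidHom (p ^ m) : G →* G).ker ≃* Multiplicative (Fin i → ZMod (p ^ m))) :
    Finite (powMonoidHom (p ^ m) : G →* G).ker := by
  haveI : NeZero (p ^ m) := ⟨pow_ne_zero _ (Fact.out : p.Prime).ne_zero⟩
  exact Finite.of_equiv _ e.toEquiv.symm

/-- (A): `#G[n] ≤ #ker φ * #H[n]`. -/
lemma card_tors_le (φ : G →* H) [Finite φ.ker] (n : ℕ)
    [Finite (powMonoidHom n : G →* G).ker] [Finite (powMonoidHom n : H →* H).ker] :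
    Nat.card (powMonoidHom n : G →* G).ker ≤
      Nat.card φ.ker * Nat.card (powMonoidHom n : H →* H).ker := by
  set Gn := (powMonoidHom n : G →* G).ker with hGn
  set Hn := (powMonoidHom n : H →* H).ker with hHn
  let ψ : Gn →* H := φ.comp Gn.subtype
  have h1 : Nat.card ψ.ker * Nat.card ψ.range = Nat.card Gn := by
    rw [← Subgroup.index_ker, Subgroup.card_mul_index]
  have h2 : Nat.card ψ.ker ≤ Nat.card φ.ker := by
    refine Nat.card_le_card_of_injective
      (fun x : ψ.ker => (⟨x.1.1, by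
        have := x.2
        rw [MonoidHom.mem_ker] at this ⊢
        exact this⟩ : φ.ker)) ?_
    intro x y hxy
    have : x.1.1 = y.1.1 := by
      have := congrArg (fun z : φ.ker => (z : G)) hxy
      exact this
    exact Subtype.ext (Subtype.ext this)
  have h3 : ψ.range ≤ Hn := by
    rintro _ ⟨x, rfl⟩
    change (powMonoidHom n) (φ x.1) = 1
    rw [powMonoidHom_apply, ← map_pow]
    have : x.1 ^ n = 1 := x.2
    rw [this, map_one]
  have h4 : Nat.card ψ.range ≤ Nat.card Hn := Subgroup.card_le_of_le h3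
  calc Nat.card Gn = Nat.card ψ.ker * Nat.card ψ.range := h1.symm
    _ ≤ Nat.card φ.ker * Nat.card Hn := Nat.mul_le_mul h2 h4

/-- (B): if `#ker φ = p^a * N'` with `N'` prime to `#H[n]`, then `#H[n] ≤ #G[n * p^a]`. -/
lemma card_tors_ge (φ : G →* H) (hsurj : Function.Surjective φ) [Finite φ.ker] (n q N' : ℕ)
    (hN : Nat.card φ.ker = q * N')
    [Finite (powMonoidHom (n * q) : G →* G).ker] [Finite (powMonoidHom n : H →* H).ker]
    (hcop : (Nat.card (powMonoidHom n : H →* H).ker).Coprime N') :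
    Nat.card (powMonoidHom n : H →* H).ker ≤ Nat.card (powMonoidHom (n * q) : G →* G).ker := by
  set Hn := (powMonoidHom n : H →* H).ker with hHn
  have key : ∀ y : Hn, ∃ x : (powMonoidHom (n * q) : G →* G).ker, φ x.1 = y.1 := by
    intro y
    set y₀ : Hn := (powCoprime hcop).symm y with hy₀
    have hy₀' : y₀ ^ N' = y := by
      have := (powCoprime hcop).apply_symm_apply y
      rwa [powCoprime_apply] at this
    obtain ⟨x₀, hx₀⟩ := hsurj y₀.1
    have hker : x₀ ^ n ∈ φ.ker := by
      rw [MonoidHom.mem_ker, map_pow, hx₀]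
      exact y₀.2
    have hpow : (x₀ ^ n) ^ (q * N') = 1 := by
      have h := pow_card_eq_one' (G := φ.ker) (x := ⟨x₀ ^ n, hker⟩)
      rw [hN] at h
      exact congrArg Subtype.val h
    refine ⟨⟨x₀ ^ N', ?_⟩, ?_⟩
    · change (powMonoidHom (n * q)) (x₀ ^ N') = 1
      rw [powMonoidHom_apply, ← pow_mul, ← hpow, ← pow_mul]
      congr 1
      ring
    · change φ (x₀ ^ N') = y.1
      rw [map_pow, hx₀, ← hy₀']
      rfl
  choose f hf using key
  refine Nat.card_le_card_of_injective f ?_
  intro y y' hyy'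
  apply Subtype.ext
  rw [← hf y, ← hf y', hyy']

/-- The `p`-rank is invariant under surjections with finite kernel. -/
theorem rank_eq (φ : G →* H) (hsurj : Function.Surjective φ) (hker : Finite φ.ker)
    (p : ℕ) [Fact p.Prime] (i j : ℕ)
    (hi : ∀ m : ℕ, Nonempty ((powMonoidHom (p ^ m) : G →* G).ker ≃*
      Multiplicative (Fin i → ZMod (p ^ m))))
    (hj : ∀ m : ℕ, Nonempty ((powMonoidHom (p ^ m) : H →* H).ker ≃*
      Multiplicative (Fin j → ZMod (p ^ m)))) : i = j := by
  have hp : p.Prime := Fact.out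
  have hp1 : 1 < p := hp.one_lt
  have hGfin : ∀ m, Finite (powMonoidHom (p ^ m) : G →* G).ker := fun m =>
    finite_tors p i m (hi m).some
  have hHfin : ∀ m, Finite (powMonoidHom (p ^ m) : H →* H).ker := fun m =>
    finite_tors p j m (hj m).some
  have hGc : ∀ m, Nat.card (powMonoidHom (p ^ m) : G →* G).ker = (p ^ m) ^ i := fun m =>
    card_tors p i m (hi m).some
  have hHc : ∀ m, Nat.card (powMonoidHom (p ^ m) : H →* H).ker = (p ^ m) ^ j := fun m =>
    card_tors p j m (hj m).some
  set N := Nat.card φ.ker with hN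
  have hN0 : N ≠ 0 := Nat.card_pos.ne'
  obtain ⟨a, N', hN', hNeq⟩ := Nat.exists_eq_pow_mul_and_not_dvd hN0 p hp.ne_one
  apply le_antisymm
  · -- i ≤ j from (A)
    by_contra hlt
    push_neg at hlt
    have hA := fun m => by
      haveI := hGfin m
      haveI := hHfin m
      exact card_tors_le φ (p ^ m)
    have h1 := hA N
    rw [hGc, hHc, ← hN] at h1
    have h2 : (p ^ N) ^ (j + 1) ≤ (p ^ N) ^ i := Nat.pow_le_pow_right (Nat.pos_of_ne_zero (pow_ne_zero _ hp.ne_zero)) hlt
    have h3 : N < p ^ N := Nat.lt_pow_self hp1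
    have h4 : (p ^ N) ^ (j + 1) = p ^ N * (p ^ N) ^ j := by rw [pow_succ, mul_comm]
    have h5 : 0 < (p ^ N) ^ j := Nat.pos_of_ne_zero (pow_ne_zero _ (pow_ne_zero _ hp.ne_zero))
    have h6 : N * (p ^ N) ^ j < p ^ N * (p ^ N) ^ j := Nat.mul_lt_mul_of_pos_right h3 h5
    omega
  · -- j ≤ i from (B)
    by_contra hlt
    push_neg at hlt
    have hB := fun m => by
      haveI : Finite (powMonoidHom (p ^ m * p ^ a) : G →* G).ker := by
        rw [← pow_add]; exact hGfin (m + a)
      haveI := hHfin m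
      refine card_tors_ge φ hsurj (p ^ m) (p ^ a) N' (hN ▸ hNeq) ?_
      rw [hHc]
      exact Nat.Coprime.pow_left _ (Nat.Coprime.pow_left _ ((Nat.Prime.coprime_iff_not_dvd hp).mpr hN'))
    have h1 := hB (a * i + 1)
    rw [hHc, ← pow_add, hGc] at h1
    rw [← pow_mul, ← pow_mul] at h1
    have h2 := (Nat.pow_le_pow_iff_right hp1).mp h1
    have h3 : (a * i + 1) * (i + 1) ≤ (a * i + 1) * j := Nat.mul_le_mul_left _ hlt
    nlinarith

end Groth.Agent.Lib.Helper19.PRankGroup
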