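import Mathlib
import Groth.Agent.Lib.Helper19.AbVar.PRankGroup

/-!
# A finite surjective homomorphism is surjective with finite kernel on geometric points
-/

set_option autoImplicit false
universe u

open CategoryTheory CategoryTheory.Limits AlgebraicGeometry MonoidalCategory
  CartesianMonoidalCategory MonObj GrpObj

namespace Groth.Agent.Lib.Helper19.PRankIsogeny

variable {k : Type u} [Field k] (Ω : Type u) [Field Ω] [IsAlgClosed Ω] [Algebra k Ω]

/-- `Spec Ω` as a `k`-scheme. -/
noncomputable abbrev T : Over (Spec (CommRingCat.of k)) :=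
  Over.mk (Spec.map (CommRingCat.ofHom (algebraMap k Ω)))

variable {Ω} {X Y : Over (Spec (CommRingCat.of k))} (h : X ⟶ Y)

/-- Surjectivity on `Ω`-points. -/
theorem exists_lift [IsFinite h.left] [Surjective h.left] (y : T (k := k) Ω ⟶ Y) :
    ∃ x : T (k := k) Ω ⟶ X, x ≫ h = y := by
  let yl : Spec (CommRingCat.of Ω) ⟶ Y.left := y.left
  have hsurj : Surjective (pullback.snd h.left yl) :=
    MorphismProperty.pullback_snd (P := @Surjective) _ _ inferInstance
  have hfin : IsFinite (pullback.snd h.left yl) :=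
    MorphismProperty.pullback_snd (P := @IsFinite) _ _ inferInstance
  obtain ⟨z, -⟩ := (pullback.snd h.left yl).surjective (IsLocalRing.closedPoint Ω)
  haveI : Nonempty ↥(pullback h.left yl) := ⟨z⟩
  have : JacobsonSpace ↥(pullback h.left yl) :=
    LocallyOfFiniteType.jacobsonSpace (pullback.snd h.left yl)
  obtain ⟨c, -, hc⟩ := nonempty_inter_closedPoints (X := ↥(pullback h.left yl)) (Z := Set.univ)
    Set.univ_nonempty isOpen_univ.isLocallyClosed
  let s := pointOfClosedPoint (pullback.snd h.left yl) c hc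
  have hs : s ≫ pullback.snd h.left yl = 𝟙 _ := pointOfClosedPoint_comp _ c hc
  have hx : (s ≫ pullback.fst h.left yl) ≫ h.left = yl := by
    rw [Category.assoc, pullback.condition, ← Category.assoc, hs, Category.id_comp]
  refine ⟨Over.homMk (s ≫ pullback.fst h.left yl) ?_, ?_⟩
  · rw [← Over.w h, ← Category.assoc, hx]
    exact Over.w y
  · apply Over.OverMorphism.ext
    exact hx

variable [GrpObj X] [GrpObj Y] [IsMonHom h]

/-- The homomorphism induced on `Ω`-points. -/
noncomputable def ptsHom : (T (k := k) Ω ⟶ X) →* (T (k := k) Ω ⟶ Y) where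
  toFun x := x ≫ h
  map_one' := MonObj.one_comp h
  map_mul' a b := MonObj.mul_comp a b h

omit [IsAlgClosed Ω] in
lemma ptsHom_apply (x : T (k := k) Ω ⟶ X) : ptsHom (Ω := Ω) h x = x ≫ h := rfl

/-- Finiteness of the kernel on `Ω`-points. -/
theorem finite_ker [IsFinite h.left] : Finite (ptsHom (Ω := Ω) h).ker := by
  let yl : Spec (CommRingCat.of Ω) ⟶ Y.left := (1 : T (k := k) Ω ⟶ Y).left
  have hfin : IsFinite (pullback.snd h.left yl) :=
    MorphismProperty.pullback_snd (P := @IsFinite) _ _ inferInstance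
  have hZ : Finite ↥(pullback h.left yl) := by
    have h1 := (pullback.snd h.left yl).finite_preimage_singleton (IsLocalRing.closedPoint Ω)
    have h2 : (pullback.snd h.left yl) ⁻¹' {IsLocalRing.closedPoint Ω} = Set.univ := by
      ext z
      simp only [Set.mem_preimage, Set.mem_singleton_iff, Set.mem_univ, iff_true]
      exact @Subsingleton.elim (PrimeSpectrum Ω) inferInstance _ _
    exact Set.finite_univ_iff.mp (h2 ▸ h1)
  have hcomp : ∀ x : (ptsHom (Ω := Ω) h).ker, (x.1.left : Spec (CommRingCat.of Ω) ⟶ X.left) ≫ h.left =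
      𝟙 _ ≫ yl := by
    intro x
    have := x.2
    rw [MonoidHom.mem_ker, ptsHom_apply] at this
    rw [Category.id_comp]
    exact congrArg (fun φ => φ.left) this
  let sec : (ptsHom (Ω := Ω) h).ker → (Spec (CommRingCat.of Ω) ⟶ pullback h.left yl) := fun x =>
    pullback.lift (x.1.left : Spec (CommRingCat.of Ω) ⟶ X.left) (𝟙 _) (hcomp x)
  refine Finite.of_injective (fun x => (sec x) (IsLocalRing.closedPoint Ω)) ?_
  intro x x' hxx'
  have h1 : sec x = sec x' :=
    ext_of_apply_closedPoint_eq (pullback.snd h.left yl) (pullback.lift_snd _ _ _)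
      (pullback.lift_snd _ _ _) hxx'
  have h2 : (x.1.left : Spec (CommRingCat.of Ω) ⟶ X.left) = x'.1.left := by
    have h3 := congrArg (fun φ => φ ≫ pullback.fst h.left yl) h1
    have e1 : sec x ≫ pullback.fst h.left yl = x.1.left := pullback.lift_fst _ _ _
    have e2 : sec x' ≫ pullback.fst h.left yl = x'.1.left := pullback.lift_fst _ _ _
    rw [← e1, ← e2]
    exact h3
  exact Subtype.ext (Over.OverMorphism.ext h2)

/-- The `p`-rank is an isogeny invariant (points version). -/
theorem rank_eq [IsCommMonObj X] [IsCommMonObj Y] [IsFinite h.left] [Surjective h.left]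
    (p : ℕ) [Fact p.Prime] (i j : ℕ)
    (hi : ∀ m : ℕ, Nonempty ((powMonoidHom (p ^ m) :
      (T (k := k) Ω ⟶ X) →* (T (k := k) Ω ⟶ X)).ker ≃* Multiplicative (Fin i → ZMod (p ^ m))))
    (hj : ∀ m : ℕ, Nonempty ((powMonoidHom (p ^ m) :
      (T (k := k) Ω ⟶ Y) →* (T (k := k) Ω ⟶ Y)).ker ≃* Multiplicative (Fin j → ZMod (p ^ m)))) :
    i = j :=
  PRankGroup.rank_eq (ptsHom (Ω := Ω) h) (fun y => exists_lift h y) (finite_ker h) p i j hi hj

end Groth.Agent.Lib.Helper19.PRankIsogeny
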